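import Groth.Agent.CohCmpLib.EulerFibre
import Groth.Agent.IntMultLib.Components
import Groth.Agent.S1641
import Groth.Agent.JacAlbLib.TorelliMain
import Groth.Agent.VertChiLib.Exc
import Groth.Agent.NefCurveLib.CurveTest
import Groth.Agent.BlowRegLib.GenericFibre
import Groth.Agent.ValFibLib.Dim
import Groth.Agent.VCovLib.SubtrNoeth
import Groth.Agent.UOpenLib.Criterion

/-! Degrees on flat specializations of curves. -/

set_option autoImplicit false
set_option maxRecDepth 8000
set_option maxHeartbeats 1000000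
set_option backward.isDefEq.respectTransparency false
set_option linter.style.haveILetI false

universe u

open CategoryTheory CategoryTheory.Limits AlgebraicGeometry TopologicalSpace

noncomputable section

namespace NefSpecLib

/-- Degrees of two curves in `Y` differing by an isomorphism agree. -/
theorem deg_congr_over (k : Type u) [Field k] {A B Y : Scheme.{u}} (sY : Y ⟶ Spec (CommRingCat.of k)) [IsProper sY]
    (a : A ⟶ Y) (b : B ⟶ Y) [IsClosedImmersion a] (α : A ≅ B) (hα : α.hom ≫ b = a)
    {sA : A ⟶ Spec (CommRingCat.of k)} {sB : B ⟶ Spec (CommRingCat.of k)} (hA : a ≫ sY = sA) (hB : b ≫ sY = sB)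
    {L : Y.Modules} (hL : PicF.IsInvertible L) :
    @Curv2.deg k _ A ⟨sA⟩ ((Scheme.Modules.pullback a).obj L) 1 =
      @Curv2.deg k _ B ⟨sB⟩ ((Scheme.Modules.pullback b).obj L) 1 := by
  letI : A.Over (Spec (CommRingCat.of k)) := ⟨sA⟩
  letI : B.Over (Spec (CommRingCat.of k)) := ⟨sB⟩
  haveI : IsProper (A ↘ Spec (CommRingCat.of k)) := by
    show IsProper sA
    rw [← hA]; infer_instance
  have he : α.hom ≫ (B ↘ Spec (CommRingCat.of k)) = A ↘ Spec (CommRingCat.of k) := by
    show α.hom ≫ sB = sA
    rw [← hB, ← Category.assoc, hα, hA]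
  haveI := (CurvLib.isCoh_of_isInvertible (AmpleDevLib.isInvertible_pb b hL)).1
  obtain ⟨h1, h2⟩ := VertChiLib.euler_iso α he ((Scheme.Modules.pullback b).obj L)
  have h3 : Curv2.euler k A ((Scheme.Modules.pullback a).obj L) =
      Curv2.euler k B ((Scheme.Modules.pullback b).obj L) :=
    (CurvLib.euler_congr (((Scheme.Modules.pullbackComp α.hom b).app L) ≪≫
      (Scheme.Modules.pullbackCongr hα).app L).symm).trans h1
  simp only [Curv2.deg, h3, h2]

/-- A nef invertible module has nonnegative degree on a closed subscheme of dimension at most one. -/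
theorem deg_nonneg_of_closedImmersion (k : Type u) [Field k] {Y Z : Scheme.{u}}
    [Y.Over (Spec (CommRingCat.of k))] [IsProper (Y ↘ Spec (CommRingCat.of k))]
    {sZ : Z ⟶ Spec (CommRingCat.of k)} (j : Z ⟶ Y) [IsClosedImmersion j]
    (hj : j ≫ (Y ↘ Spec (CommRingCat.of k)) = sZ)
    (hdim : topologicalKrullDim Z ≤ 1) {L : Y.Modules} (hL : PicF.IsInvertible L)
    (hnef : ∀ C : Y.IdealSheafData, IsIntegral C.subscheme →
      topologicalKrullDim (C.support : Set Y) = 1 →
        0 ≤ Curv2.euler k Y (CohB1.tensorMod (ClSub.quotMod C) L) - Curv2.euler k Y (ClSub.quotMod C)) :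
    0 ≤ @Curv2.deg k _ Z ⟨sZ⟩ ((Scheme.Modules.pullback j).obj L) 1 := by
  subst hj
  letI : Z.Over (Spec (CommRingCat.of k)) := ⟨j ≫ (Y ↘ Spec (CommRingCat.of k))⟩
  haveI : IsProper (Z ↘ Spec (CommRingCat.of k)) := inferInstanceAs (IsProper (j ≫ (Y ↘ Spec (CommRingCat.of k))))
  haveI := CurvLib.isNoetherian k (X := Z)
  have hLZ := AmpleDevLib.isInvertible_pb j hL
  rw [Groth.Agent.S1641.result k Z hdim 1 _ (CurvLib.locFree_of_isInvertible hLZ)]
  refine finsum_nonneg fun W => ?_
  split_ifs with hW
  · refine mul_nonneg (Nat.cast_nonneg _) ?_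
    have hI : (Z.irreducibleComponentIdeal W.1 W.2).radical = IntMultLib.ptIdeal W.2.1.genericPoint := by
      rw [← Scheme.IdealSheafData.vanishingIdeal_support]
      refine congrArg _ (SetLike.coe_injective ?_)
      exact (W.2.1.isGenericPoint_genericPoint_closure.def.trans
        (isClosed_of_mem_irreducibleComponents _ W.2).closure_eq).symm
    rw [hI]
    set η := W.2.1.genericPoint
    set a := (IntMultLib.ptIdeal η).subschemeι ≫ j with ha
    set J := IntMultLib.ptIdeal (j η)
    haveI := IntMultLib.isIntegral_ptIdeal η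
    haveI := IntMultLib.isIntegral_ptIdeal (j η)
    have hr : Set.range a.base = Set.range J.subschemeι.base := by
      rw [IntMultLib.range_ptIdeal, ← Set.image_singleton, j.isClosedEmbedding.closure_image_eq,
        ← IntMultLib.range_ptIdeal η, ← Set.range_comp]
      rfl
    obtain ⟨α, hα⟩ := JacAlbLib.exists_iso_of_range_eq a J.subschemeι hr
    have hd : topologicalKrullDim (J.support : Set Y) = 1 := by
      rw [← hW, Scheme.IdealSheafData.coe_support_vanishingIdeal]
      change topologicalKrullDim (closure ({j η} : Set Y)) = _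
      rw [IntFunLib.dim_closure_image j, W.2.1.isGenericPoint_genericPoint_closure.def,
        (isClosed_of_mem_irreducibleComponents _ W.2).closure_eq]
    have h := hnef J inferInstance hd
    have h2 := IntMultLib.euler_quotMod_tensor k (CurvLib.locFree_of_isInvertible hL) J
    rw [Nat.cast_one, one_mul] at h2
    rw [h2, ← deg_congr_over k (Y ↘ Spec (CommRingCat.of k)) a J.subschemeι α hα (sA := (IntMultLib.ptIdeal η).subschemeι ≫ (Z ↘ Spec (CommRingCat.of k))) (Category.assoc _ _ _) rfl hL] at h
    refine h.trans_eq ?_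
    letI : (IntMultLib.ptIdeal η).subscheme.Over (Spec (CommRingCat.of k)) :=
      ⟨(IntMultLib.ptIdeal η).subschemeι ≫ (Z ↘ Spec (CommRingCat.of k))⟩
    exact CurvLib.deg_congr (k := k) (X := (IntMultLib.ptIdeal η).subscheme)
      (((Scheme.Modules.pullbackComp (IntMultLib.ptIdeal η).subschemeι j).app L).symm) 1
  · exact le_rfl

variable {X S Z : Scheme.{u}}

/-- The closed subscheme of a fibre cut out by a closed subscheme of the total space. -/
def fibreMap (p : X ⟶ S) (ι : Z ⟶ X) (s : S) : (ι ≫ p).fiber s ⟶ p.fiber s :=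
  pullback.map (ι ≫ p) (S.fromSpecResidueField s) p (S.fromSpecResidueField s) ι (𝟙 _) (𝟙 S)
    (Category.comp_id _) ((Category.comp_id _).trans (Category.id_comp _).symm)

theorem fibreMap_fiberι (p : X ⟶ S) (ι : Z ⟶ X) (s : S) : fibreMap p ι s ≫ p.fiberι s = (ι ≫ p).fiberι s ≫ ι :=
  pullback.lift_fst _ _ _

theorem fibreMap_toSpec (p : X ⟶ S) (ι : Z ⟶ X) (s : S) :
    fibreMap p ι s ≫ p.fiberToSpecResidueField s = (ι ≫ p).fiberToSpecResidueField s :=
  (pullback.lift_snd _ _ _).trans (Category.comp_id _)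

instance isClosedImmersion_fibreMap (p : X ⟶ S) (ι : Z ⟶ X) [IsClosedImmersion ι] (s : S) :
    IsClosedImmersion (fibreMap p ι s) := by
  have H : IsPullback ((ι ≫ p).fiberι s) (fibreMap p ι s) ι (p.fiberι s) :=
    IsPullback.of_bot (by erw [fibreMap_toSpec]; exact IsPullback.of_hasPullback _ _) (fibreMap_fiberι p ι s).symm
      (IsPullback.of_hasPullback _ _)
  exact MorphismProperty.of_isPullback H inferInstance

/-- The degree of `L` on the fibres of a flat closed family is constant. -/
theorem deg_fibre_const [PreconnectedSpace S] (p : X ⟶ S) (ι : Z ⟶ X) [IsProper (ι ≫ p)] [Flat (ι ≫ p)]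
    [LocallyOfFinitePresentation (ι ≫ p)] {L : X.Modules} (hL : PicF.IsInvertible L) (s t : S) :
    @Curv2.deg (S.residueField s) _ ((ι ≫ p).fiber s) ⟨(ι ≫ p).fiberToSpecResidueField s⟩
        ((Scheme.Modules.pullback (fibreMap p ι s)).obj ((Scheme.Modules.pullback (p.fiberι s)).obj L)) 1 =
      @Curv2.deg (S.residueField t) _ ((ι ≫ p).fiber t) ⟨(ι ≫ p).fiberToSpecResidueField t⟩
        ((Scheme.Modules.pullback (fibreMap p ι t)).obj ((Scheme.Modules.pullback (p.fiberι t)).obj L)) 1 := by
  obtain ⟨-, hf1, hl1⟩ := CohCmpLib.rank_one_hyps (ι ≫ p)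
    ((CohCmpLib.invertible_iff_rank_one _).1 (AmpleDevLib.isInvertible_pb ι hL))
  obtain ⟨-, hf2, hl2⟩ := CohCmpLib.rank_one_hyps (ι ≫ p) (CohCmpLib.rank_one_structureModule Z)
  have key : ∀ r : S, @Curv2.deg (S.residueField r) _ ((ι ≫ p).fiber r) ⟨(ι ≫ p).fiberToSpecResidueField r⟩
        ((Scheme.Modules.pullback (fibreMap p ι r)).obj ((Scheme.Modules.pullback (p.fiberι r)).obj L)) 1 =
      PerfAux.eulerChar (ι ≫ p) ((Scheme.Modules.pullback ι).obj L) r -
        PerfAux.eulerChar (ι ≫ p) (Coh.structureModule Z) r := fun r => by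
    letI : ((ι ≫ p).fiber r).Over (Spec (CommRingCat.of (S.residueField r))) := ⟨(ι ≫ p).fiberToSpecResidueField r⟩
    simp only [Curv2.deg, Nat.cast_one, one_mul]
    congr 1
    · exact CurvLib.euler_congr ((Scheme.Modules.pullbackComp (fibreMap p ι r) (p.fiberι r)).app L ≪≫
        (Scheme.Modules.pullbackCongr (fibreMap_fiberι p ι r)).app L ≪≫
        ((Scheme.Modules.pullbackComp ((ι ≫ p).fiberι r) ι).app L).symm)
    · exact CurvLib.euler_congr (KFlatLib.pullUnitIso ((ι ≫ p).fiberι r)).symm
  rw [key, key, (CohCmpLib.isLocallyConstant_eulerChar hf1 hl1).apply_eq_of_preconnectedSpace s t,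
    (CohCmpLib.isLocallyConstant_eulerChar hf2 hl2).apply_eq_of_preconnectedSpace s t]

/-- The fibre of the closure of a point over its image. -/
theorem range_fibreMap (p : X ⟶ S) (z : X) (η : S) (hη : p z = η) (hcl : closure ({η} : Set S) ∈ irreducibleComponents S)
    (ι : Z ⟶ X) [IsClosedImmersion ι] [IsReduced Z] (hZ : Set.range ι = closure {z}) :
    IsIntegral ((ι ≫ p).fiber η) ∧
      ∀ c : p.fiber η, p.fiberι η c = z → Set.range (fibreMap p ι η).base = closure {c} := by
  subst hη
  obtain ⟨hint, w, hw, hr⟩ := BlowRegLib.isIntegral_closure_in_fibre p z hcl ι hZ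
  refine ⟨hint, fun c hc => hr.trans ?_⟩
  rw [show w = c from (p.fiberι (p z)).isEmbedding.injective (hw.trans hc.symm)]

/-- Nef on a special fibre implies nef on the generic fibre. -/
theorem nef_generic (R : Type u) [CommRing R] [IsDomain R] [IsDiscreteValuationRing R] (X : Scheme.{u})
    (p : X ⟶ Spec (CommRingCat.of R)) [IsProper p] {L : X.Modules} (hL : PicF.IsInvertible L)
    (η s : Spec (CommRingCat.of R)) (hη : η = genericPoint (Spec (CommRingCat.of R)))
    (hs : ∀ C : (p.fiber s).IdealSheafData, IsIntegral C.subscheme →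
      topologicalKrullDim (C.support : Set ↥(p.fiber s)) = 1 →
        0 ≤ @Curv2.euler ((Spec (CommRingCat.of R)).residueField s) _ (p.fiber s) ⟨p.fiberToSpecResidueField s⟩
              (CohB1.tensorMod (ClSub.quotMod C) ((Scheme.Modules.pullback (p.fiberι s)).obj L)) -
            @Curv2.euler ((Spec (CommRingCat.of R)).residueField s) _ (p.fiber s) ⟨p.fiberToSpecResidueField s⟩
              (ClSub.quotMod C))
    (C : (p.fiber η).IdealSheafData) (hC : IsIntegral C.subscheme)
    (hd : topologicalKrullDim (C.support : Set ↥(p.fiber η)) = 1) :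
    0 ≤ @Curv2.euler ((Spec (CommRingCat.of R)).residueField η) _ (p.fiber η) ⟨p.fiberToSpecResidueField η⟩
          (CohB1.tensorMod (ClSub.quotMod C) ((Scheme.Modules.pullback (p.fiberι η)).obj L)) -
        @Curv2.euler ((Spec (CommRingCat.of R)).residueField η) _ (p.fiber η) ⟨p.fiberToSpecResidueField η⟩
          (ClSub.quotMod C) := by
  let k := (Spec (CommRingCat.of R)).residueField η
  haveI : IsProper (p.fiberToSpecResidueField η) := MorphismProperty.pullback_snd (P := @IsProper) _ _ ‹_›
  haveI : IsProper (p.fiberToSpecResidueField s) := MorphismProperty.pullback_snd (P := @IsProper) _ _ ‹_›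
  letI : (p.fiber η).Over (Spec (CommRingCat.of k)) := ⟨p.fiberToSpecResidueField η⟩
  haveI : IsProper (p.fiber η ↘ Spec (CommRingCat.of k)) := ‹IsProper (p.fiberToSpecResidueField η)›
  letI : (p.fiber s).Over (Spec (CommRingCat.of ((Spec (CommRingCat.of R)).residueField s))) :=
    ⟨p.fiberToSpecResidueField s⟩
  haveI : IsProper (p.fiber s ↘ Spec (CommRingCat.of ((Spec (CommRingCat.of R)).residueField s))) :=
    ‹IsProper (p.fiberToSpecResidueField s)›
  have hLη := AmpleDevLib.isInvertible_pb (p.fiberι η) hL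
  have h2 := IntMultLib.euler_quotMod_tensor k (CurvLib.locFree_of_isInvertible hLη) C
  rw [Nat.cast_one, one_mul] at h2
  rw [h2]
  let c := C.subschemeι (genericPoint C.subscheme)
  let z := p.fiberι η c
  have hpz : p z = η := (Set.ext_iff.mp (Scheme.Hom.range_fiberι p η) z).mp ⟨c, rfl⟩
  haveI := IntMultLib.isIntegral_ptIdeal z
  let ι := (IntMultLib.ptIdeal z).subschemeι
  have hιz : ι (genericPoint (IntMultLib.ptIdeal z).subscheme) = z := NefCurveLib.subscheme_generic z
  have hgen : (ι ≫ p) (genericPoint (IntMultLib.ptIdeal z).subscheme) = genericPoint (Spec (CommRingCat.of R)) := by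
    rw [Scheme.Hom.comp_apply, hιz, hpz, hη]
  haveI : Flat (ι ≫ p) := by
    refine VCovLib.flat_of_dense_genericFibre (V := CommRingCat.of R) (ι ≫ p) ?_
    refine Dense.mono ?_ (dense_iff_closure_eq.mpr (genericPoint_spec (IntMultLib.ptIdeal z).subscheme))
    rintro _ rfl
    exact hgen.trans (genericPoint_eq_bot_of_affine _)
  haveI : LocallyOfFinitePresentation (ι ≫ p) := UOpenLib.locallyOfFinitePresentation_of_isLocallyNoetherian _
  obtain ⟨hint, hr⟩ := range_fibreMap p z η hpz
    (by rw [hη, (genericPoint_spec (Spec (CommRingCat.of R))).def, irreducibleComponents_eq_singleton]; rfl)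
    ι (IntMultLib.range_ptIdeal z)
  haveI := hint
  haveI := hC
  have hrC : Set.range C.subschemeι.base = closure {c} := by
    have h := (genericPoint_spec C.subscheme).def
    have h' := C.subschemeι.isClosedEmbedding.closure_image_eq {genericPoint C.subscheme}
    rw [Set.image_singleton] at h'
    rw [h', h, Set.image_univ]
  haveI : IsReduced ((ι ≫ p).fiber η) := isReduced_of_isIntegral _
  obtain ⟨α, hα⟩ := JacAlbLib.exists_iso_of_range_eq C.subschemeι (fibreMap p ι η) (hrC.trans (hr c rfl).symm)
  rw [deg_congr_over k (p.fiberToSpecResidueField η) C.subschemeι (fibreMap p ι η) α hα rfl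
    (fibreMap_toSpec p ι η) hLη]
  rw [deg_fibre_const p ι hL η s]
  refine deg_nonneg_of_closedImmersion ((Spec (CommRingCat.of R)).residueField s) (fibreMap p ι s)
    (sZ := (ι ≫ p).fiberToSpecResidueField s) (fibreMap_toSpec p ι s) ?_
    (AmpleDevLib.isInvertible_pb _ hL) hs
  refine (ValFibLib.fiber_dim_le_generic (ι ≫ p) s fun x _ => ⟨_, genericPoint_specializes x, hgen⟩).trans ?_
  rw [← hη, ← IsHomeomorph.topologicalKrullDim_eq _ (Scheme.Hom.homeomorph α.hom).isHomeomorph, ← hd,
    ← C.range_subschemeι]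
  exact (IsHomeomorph.topologicalKrullDim_eq _ C.subschemeι.isEmbedding.toHomeomorph.isHomeomorph).le

end NefSpecLib
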